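import Cfsg.Agent.Lib.KnownSimple.WeylGroups.Basic
import Cfsg.Agent.Lib.Known.ChevLift.TorusCheck
import Cfsg.Prelude.Def_ChevAutomorphisms

/-!
# The monomial subgroup and few root subgroups generate
-/

set_option autoImplicit false

namespace CfsgLib.Chev.Table.Tab

variable (T : Tab)

/-- Two fundamental roots are exchanged by their two reflections. -/
def braidB (i j : ℕ) : Bool := CfsgLib.Chev.Table.actW T [i, j] (T.smp i) == T.smp j

/-- The fundamental roots reached from the given ones in at most `n` steps. -/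
def reachL (L : List ℕ) : ℕ → List ℕ
  | 0 => L
  | n + 1 => (List.range T.rank).filter fun j =>
      memB j (reachL L n) || (reachL L n).any fun i => Nat.blt i T.rank && T.braidB i j

/-- All fundamental roots are reached. -/
def chkReach (L : List ℕ) : Bool := allBelow T.rank fun j => memB j (T.reachL L T.rank)

/-- A commutator of root subgroups in the orbit of `i` is a multiple `C` of one in the orbit of `j`. -/
def chkDerive (i j : ℕ) (w w' : List ℕ) (C : ℤ) : Bool :=
  let r := T.smp i
  let s := CfsgLib.Chev.Table.actW T w r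
  T.okB r s &&
    match T.terms r s with
    | [c] => (c.2.1 == C) && Nat.beq c.2.2.1 1 && Nat.beq c.2.2.2 1 &&
        (CfsgLib.Chev.Table.actW T w' c.1 == T.smp j)
    | _ => false

end CfsgLib.Chev.Table.Tab

namespace CfsgLib.Chev.MonGen

open Cfsg.Lie CfsgLib.Chev.Table CfsgLib.Chev.Lift

universe v

variable {D : ChevalleyDatum} {co : ℕ → ℕ → ℤ} {T : Tab} {K : Type v} [Field K]
  {S : Subgroup (GL D.Idx K)}

/-- The root subgroup of `r` lies in `S`. -/
def RootIn (D : ChevalleyDatum) {K : Type v} [Field K] (S : Subgroup (GL D.Idx K)) (r : ℕ) : Prop :=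
  ∀ t : K, xU D r t ∈ S

variable (hA : T.chkArrays D = true) (hC : T.chkChain D = true) (hF : Facts D co)
  (hN : D.monomialSubgroup K ≤ S)
include hF hN

theorem rootIn_move {r : Fin D.nroots} (l : List (Fin D.rank)) (h : RootIn D S r.val) :
    RootIn D S (sW D l r).val := by
  intro t
  obtain ⟨c, hc, h1, -⟩ := hF.permAct_nW (F := K) l r
  have hn : nW D K l ∈ S := hN (hF.nW_mem l)
  have e := h1 (t / c)
  rw [mul_div_cancel₀ _ hc] at e
  rw [← e]
  exact mul_mem (mul_mem hn (h _)) (inv_mem hn)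

theorem le_of_simple (h : ∀ i < D.rank, RootIn D S (D.simple i)) : D.group K ≤ S := by
  rw [hF.group_eq, rootClosure, Subgroup.closure_le]
  rintro _ ⟨r, t, hr, -, rfl⟩
  refine hF.root_induction (P := fun r => r < D.nroots → RootIn D S r) (fun i hi _ => h i hi)
    (fun i hi s hs ih _ => ?_) hr hr t
  have := rootIn_move hF hN [⟨i, hi⟩] (r := ⟨s, hs⟩) (ih hs)
  rwa [sW_cons, sW_nil, mul_one, hF.sP_val] at this

include hA hC

theorem rootIn_braid {i j : ℕ} (hi : i < D.rank) (hj : j < D.rank) (h : T.braidB i j = true)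
    (hin : RootIn D S (D.simple i)) : RootIn D S (D.simple j) := by
  have := rootIn_move hF hN [⟨i, hi⟩, ⟨j, hj⟩] (r := ⟨D.simple i, hF.simple_lt' hi⟩) hin
  rw [actW_eq hA hC hF] at this
  simp only [List.map_cons, List.map_nil] at this
  rw [Tab.braidB, ← simple_eq hA hi, ← simple_eq hA hj, beq_iff_eq] at h
  rwa [h] at this

theorem rootIn_reach {L : List ℕ} (hL : ∀ i ∈ L, i < D.rank → RootIn D S (D.simple i)) :
    ∀ n, ∀ j ∈ T.reachL L n, j < D.rank → RootIn D S (D.simple j) := by
  intro n
  induction n with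
  | zero => exact hL
  | succ n ih =>
    intro j hj hjr
    simp only [Tab.reachL, List.mem_filter, Bool.or_eq_true, memB_iff, List.any_eq_true,
      Bool.and_eq_true, Nat.blt_eq] at hj
    rcases hj.2 with h | ⟨i, hi, hir, hb⟩
    · exact ih j h hjr
    · have hir' : i < D.rank := (rank_eq hA).symm ▸ hir
      exact rootIn_braid hA hC hF hN hir' hjr hb (ih i hi hir')

theorem le_of_reach {L : List ℕ} (hchk : T.chkReach L = true)
    (hL : ∀ i ∈ L, i < D.rank → RootIn D S (D.simple i)) : D.group K ≤ S :=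
  le_of_simple hF hN fun j hj => rootIn_reach hA hC hF hN hL T.rank j
    (memB_iff.1 (allBelow_spec hchk j (rank_eq hA ▸ hj))) hj

theorem rootIn_derive (hcomm : CommF.{v} D) {i j : Fin D.rank} {w w' : List (Fin D.rank)} {C : ℤ}
    (h : T.chkDerive i.val j.val (w.map Fin.val) (w'.map Fin.val) C = true) (hC0 : (C : K) ≠ 0)
    (hin : RootIn D S (D.simple i.val)) : RootIn D S (D.simple j.val) := by
  have hi := hF.simple_lt' i.isLt
  set s := sW D w ⟨D.simple i.val, hi⟩ with hs
  have hsin : RootIn D S s.val := rootIn_move hF hN w hin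
  have hr0 : T.smp i.val = D.simple i.val := (simple_eq hA i.isLt).symm
  simp only [Tab.chkDerive, hr0, Bool.and_eq_true] at h
  rw [show CfsgLib.Chev.Table.actW T (w.map Fin.val) (D.simple i.val) = s.val from
    (actW_eq hA hC hF w ⟨D.simple i.val, hi⟩).symm, okB_iff hA hi s.isLt,
    ← terms_eq hA hC hF hi s.isLt] at h
  obtain ⟨hok, h⟩ := h
  rcases ht : D.commTerms (D.simple i.val) s.val with _ | ⟨⟨k, C', a, b⟩, _ | ⟨d, l⟩⟩ <;>
    simp only [ht, Bool.false_eq_true] at h
  simp only [Bool.and_eq_true, beq_iff_eq, Nat.beq_eq] at h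
  obtain ⟨⟨⟨rfl, rfl⟩, rfl⟩, hk'⟩ := h
  have hk : k < D.nroots :=
    (hF.commTerms_wt hF.isWeight_omega hi s.isLt (c := (k, C', 1, 1)) (by simp [ht])).1
  have hkin : RootIn D S k := by
    intro t
    have hrel := hF.xU_comm hcomm hi s.isLt hok.2.2.1 hok.2.2.2 (-(t / (C' : K))) (1 : K)
    simp only [cwR, ht, List.map_cons, List.map_nil, wU, List.prod_cons, List.prod_nil, mul_one,
      pow_one, _root_.neg_neg, mul_div_cancel₀ _ hC0] at hrel
    rw [show xU D k t = (xU D (D.simple i.val) (-(t / (C' : K))) * xU D s.val 1)⁻¹ *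
      (xU D s.val 1 * xU D (D.simple i.val) (-(t / (C' : K)))) by rw [hrel]; group]
    exact mul_mem (inv_mem (mul_mem (hin _) (hsin _))) (mul_mem (hsin _) (hin _))
  have h2 := rootIn_move hF hN w' (r := ⟨k, hk⟩) hkin
  rw [actW_eq hA hC hF, hk', ← simple_eq hA j.isLt] at h2
  exact h2

end CfsgLib.Chev.MonGen
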