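import Cfsg.Agent.Lib.KnownSimple.MonomialGen.Basic

/-!
# Generation of the tabulated groups by the monomial subgroup and root subgroups
-/

set_option autoImplicit false
set_option maxRecDepth 20000

namespace CfsgLib.Chev.MonGen

open Cfsg.Lie CfsgLib.Chev.Table CfsgLib.Chev.Lift

universe v

variable {K : Type v} [Field K]

theorem natCast_ne_zero_of_ringChar {p : ℕ} (hp : p.Prime) (h : ringChar K ≠ p) : ((p : ℤ) : K) ≠ 0 := by
  intro h0
  rw [Int.cast_natCast] at h0
  rcases (Nat.dvd_prime hp).1 (ringChar.dvd h0) with e | e
  · exact CharP.ringChar_ne_one e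
  · exact h e

theorem rootIn_of_le {D : ChevalleyDatum} {co : ℕ → ℕ → ℤ} (hF : Facts D co)
    {S : Subgroup (GL D.Idx K)} {i : ℕ} (hi : i < D.rank) (h : D.rootSubgroup K (D.simple i) ≤ S) :
    RootIn D S (D.simple i) :=
  fun t => h ((hF.mem_rootSubgroup_iff (hF.simple_lt' hi)).2 ⟨t, rfl⟩)

theorem group_le_short {D : ChevalleyDatum}
    (hD : D ∈ [chevG2, chevB2, chevD4, chevF4, chevE6, chevE7, chevE8])
    (h2 : D ∈ [chevB2, chevF4] → ringChar K ≠ 2) (h3 : D = chevG2 → ringChar K ≠ 3)
    {i : ℕ} (hi : i < D.rank) (hs : D.isLong (D.simple i) = false)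
    {S : Subgroup (GL D.Idx K)} (hN : D.monomialSubgroup K ≤ S)
    (hin : D.rootSubgroup K (D.simple i) ≤ S) : D.group K ≤ S := by
  simp only [List.mem_cons, List.not_mem_nil, or_false] at hD
  rcases hD with rfl | rfl | rfl | rfl | rfl | rfl | rfl
  · have hF := DataG2.facts
    have h0 := rootIn_of_le hF hi hin
    have e : chevG2.rank = 2 := rfl
    obtain rfl | rfl : i = 0 ∨ i = 1 := by omega
    · refine le_of_reach DataG2.chk_arrays DataG2.chk_chain hF hN (L := [0, 1]) (by decide +kernel)
        fun j hj _ => ?_
      simp only [List.mem_cons, List.not_mem_nil, or_false] at hj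
      rcases hj with rfl | rfl
      · exact h0
      · exact rootIn_derive DataG2.chk_arrays DataG2.chk_chain hF hN DataG2.commF
          (i := (⟨0, by decide +kernel⟩ : Fin chevG2.rank)) (j := ⟨1, by decide +kernel⟩)
          (w := ([1, 0] : List (Fin 2))) (w' := ([1] : List (Fin 2))) (C := 3) (by decide +kernel)
          (natCast_ne_zero_of_ringChar Nat.prime_three (h3 rfl)) h0
    · exact absurd hs (by decide +kernel)
  · have hF := DataB2.facts
    have h0 := rootIn_of_le hF hi hin
    have e : chevB2.rank = 2 := rfl
    obtain rfl | rfl : i = 0 ∨ i = 1 := by omega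
    · refine le_of_reach DataB2.chk_arrays DataB2.chk_chain hF hN (L := [0, 1]) (by decide +kernel)
        fun j hj _ => ?_
      simp only [List.mem_cons, List.not_mem_nil, or_false] at hj
      rcases hj with rfl | rfl
      · exact h0
      · exact rootIn_derive DataB2.chk_arrays DataB2.chk_chain hF hN good_B2.comm
          (i := (⟨0, by decide +kernel⟩ : Fin chevB2.rank)) (j := ⟨1, by decide +kernel⟩)
          (w := ([1] : List (Fin 2))) (w' := ([0] : List (Fin 2))) (C := 2) (by decide +kernel)
          (natCast_ne_zero_of_ringChar Nat.prime_two (h2 (by simp))) h0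
    · exact absurd hs (by decide +kernel)
  · have hF := DataD4.facts
    have h0 := rootIn_of_le hF hi hin
    refine le_of_reach DataD4.chk_arrays DataD4.chk_chain hF hN (L := [i]) ?_
      fun j hj _ => List.mem_singleton.1 hj ▸ h0
    have := (by decide +kernel : allBelow 4 (fun i => DataD4.tab.chkReach [i]) = true)
    exact allBelow_spec this i hi
  · have hF := DataF4.facts
    have h0 := rootIn_of_le hF hi hin
    have e : chevF4.rank = 4 := rfl
    have h1 : RootIn chevF4 S (chevF4.simple 1) := by
      obtain rfl | rfl | rfl | rfl : i = 0 ∨ i = 1 ∨ i = 2 ∨ i = 3 := by omega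
      · exact rootIn_braid DataF4.chk_arrays DataF4.chk_chain hF hN (by decide +kernel) (by decide +kernel)
          (by decide +kernel) h0
      · exact h0
      · exact absurd hs (by decide +kernel)
      · exact absurd hs (by decide +kernel)
    refine le_of_reach DataF4.chk_arrays DataF4.chk_chain hF hN (L := [1, 2]) (by decide +kernel)
      fun j hj _ => ?_
    simp only [List.mem_cons, List.not_mem_nil, or_false] at hj
    rcases hj with rfl | rfl
    · exact h1
    · exact rootIn_derive DataF4.chk_arrays DataF4.chk_chain hF hN good_F4.comm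
        (i := (⟨1, by decide +kernel⟩ : Fin chevF4.rank)) (j := ⟨2, by decide +kernel⟩)
        (w := ([2] : List (Fin 4))) (w' := ([1] : List (Fin 4))) (C := 2) (by decide +kernel)
        (natCast_ne_zero_of_ringChar Nat.prime_two (h2 (by simp))) h1
  · have hF := DataE6.facts
    have h0 := rootIn_of_le hF hi hin
    refine le_of_reach DataE6.chk_arrays DataE6.chk_chain hF hN (L := [i]) ?_
      fun j hj _ => List.mem_singleton.1 hj ▸ h0
    have := (by decide +kernel : allBelow 6 (fun i => DataE6.tab.chkReach [i]) = true)
    exact allBelow_spec this i hi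
  · have hF := DataE7.facts
    have h0 := rootIn_of_le hF hi hin
    refine le_of_reach DataE7.chk_arrays DataE7.chk_chain hF hN (L := [i]) ?_
      fun j hj _ => List.mem_singleton.1 hj ▸ h0
    have := (by decide +kernel : allBelow 7 (fun i => DataE7.tab.chkReach [i]) = true)
    exact allBelow_spec this i hi
  · have hF := DataE8.facts
    have h0 := rootIn_of_le hF hi hin
    refine le_of_reach DataE8.chk_arrays DataE8.chk_chain hF hN (L := [i]) ?_
      fun j hj _ => List.mem_singleton.1 hj ▸ h0
    have := (by decide +kernel : allBelow 8 (fun i => DataE8.tab.chkReach [i]) = true)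
    exact allBelow_spec this i hi

theorem group_le_two {D : ChevalleyDatum} {T : Tab} {co : ℕ → ℕ → ℤ}
    (hA : T.chkArrays D = true) (hC : T.chkChain D = true) (hF : Facts D co)
    {S : Subgroup (GL D.Idx K)} (hN : D.monomialSubgroup K ≤ S) {i j : ℕ} (hi : i < D.rank)
    (hj : j < D.rank) (hs : D.isLong (D.simple i) = false) (hl : D.isLong (D.simple j) = true)
    (hchk : (allBelow D.rank fun a => allBelow D.rank fun b =>
      bif !D.isLong (D.simple a) && D.isLong (D.simple b) then T.chkReach [a, b] else true) = true)
    (ha : D.rootSubgroup K (D.simple i) ≤ S) (hb : D.rootSubgroup K (D.simple j) ≤ S) :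
    D.group K ≤ S := by
  have h := allBelow_spec (allBelow_spec hchk i hi) j hj
  rw [hs, hl, Bool.not_false, Bool.and_self, cond_true] at h
  refine le_of_reach hA hC hF hN h fun a haL _ => ?_
  simp only [List.mem_cons, List.not_mem_nil, or_false] at haL
  rcases haL with rfl | rfl
  · exact rootIn_of_le hF hi ha
  · exact rootIn_of_le hF hj hb

end CfsgLib.Chev.MonGen
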